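import Mathlib

/-! Invariance of the residue under change of uniformizer, in any characteristic. -/

universe u

open PowerSeries

noncomputable section

namespace Groth.Agent.ResUnif

lemma map_derivative {R S : Type*} [CommRing R] [CommRing S] (φ : R →+* S) (W : R⟦X⟧) :
    PowerSeries.map φ (derivative R W) = derivative S (PowerSeries.map φ W) := by
  ext n
  simp [coeff_derivative]

theorem coeff_pow_succ {R : Type u} [CommRing R] (w : R⟦X⟧) (n : ℕ) :
    coeff (n + 1) (w ^ (n + 1)) = coeff n (w ^ n * derivative R w) := by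
  let W : (MvPolynomial ℕ ℤ)⟦X⟧ := mk fun i => MvPolynomial.X i
  let φ : MvPolynomial ℕ ℤ →+* R := MvPolynomial.eval₂Hom (Int.castRingHom R) fun i => coeff i w
  have hW : PowerSeries.map φ W = w := by ext i; simp [W, φ]
  have key : coeff (n + 1) (W ^ (n + 1)) = coeff n (W ^ n * derivative _ W) := by
    have h := congrArg (coeff n) (Derivation.leibniz_pow (derivative (MvPolynomial ℕ ℤ)) W (n + 1))
    rw [coeff_derivative, map_nsmul, smul_eq_mul, Nat.add_sub_cancel, nsmul_eq_mul] at h
    refine mul_left_cancel₀ (Nat.cast_add_one_ne_zero (R := MvPolynomial ℕ ℤ) n) ?_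
    push_cast at h
    rw [← h, mul_comm]
  have := congrArg φ key
  rw [← coeff_map, ← coeff_map] at this
  simpa [map_pow, map_mul, map_derivative, hW] using this

theorem coeff_res {k : Type u} [CommRing k] (v w : k⟦X⟧) (hvw : v * w = 1) (m : ℕ) :
    coeff m (derivative k (X * v) * w ^ (m + 1)) = if m = 0 then 1 else 0 := by
  have hD : derivative k (X * v) = v + X * derivative k v := by
    rw [Derivation.leibniz, derivative_X, smul_eq_mul, smul_eq_mul, mul_one]; ring
  have hDw : derivative k v * w = -(v * derivative k w) := by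
    have h := congrArg (derivative k) hvw
    rw [Derivation.leibniz, derivative_one, smul_eq_mul, smul_eq_mul] at h
    linear_combination h
  rcases m with _ | n
  · have h0 : constantCoeff v * constantCoeff w = 1 := by rw [← map_mul, hvw, map_one]
    rw [if_pos rfl, coeff_zero_eq_constantCoeff, hD, map_mul, map_add, map_mul, constantCoeff_X, zero_mul, add_zero,
      pow_one, h0]
  · rw [if_neg (Nat.succ_ne_zero n)]
    have e : derivative k (X * v) * w ^ (n + 1 + 1) = w ^ (n + 1) - X * (w ^ n * derivative k w) := by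
      rw [hD]
      linear_combination (w ^ (n + 1)) * hvw + (X * w ^ (n + 1)) * hDw - (X * w ^ n * derivative k w) * hvw
    rw [e, map_sub, coeff_succ_X_mul, coeff_pow_succ, sub_self]

theorem residue_subst {k : Type u} [Field k] (u : k⟦X⟧) (hu : u.order = 1) (f₀ : k⟦X⟧) (N : ℕ) :
    (HahnSeries.ofPowerSeries ℤ k (PowerSeries.subst u f₀ * PowerSeries.derivative k u) *
          (HahnSeries.ofPowerSeries ℤ k u)⁻¹ ^ N).coeff (-1) =
      if N = 0 then 0 else PowerSeries.coeff (N - 1) f₀ := by
  have hc0 : constantCoeff u = 0 := by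
    rw [← coeff_zero_eq_constantCoeff_apply]
    exact coeff_of_lt_order 0 (by rw [hu]; norm_num)
  have hc1 : coeff 1 u ≠ 0 := by
    have h := coeff_order (φ := u) (fun h => by rw [h, order_zero] at hu; exact absurd hu (by simp))
    simpa [hu] using h
  let v : k⟦X⟧ := mk fun p => coeff (p + 1) u
  have huv : u = X * v := by
    conv_lhs => rw [eq_shift_mul_X_add_const u, hc0, map_zero, add_zero, mul_comm]
  let w : k⟦X⟧ := v⁻¹
  have hvw : v * w = 1 := PowerSeries.mul_inv_cancel v (by simpa [v] using hc1)
  have hsub : HasSubst u := HasSubst.of_constantCoeff_zero' hc0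
  let T : Polynomial k := trunc N f₀
  let g : k⟦X⟧ := mk fun p => coeff (p + N) f₀
  have hf : f₀ = (T : k⟦X⟧) + X ^ N * g := by
    ext n
    rw [map_add, Polynomial.coeff_coe, coeff_trunc, coeff_X_pow_mul']
    rcases Nat.lt_or_ge n N with h | h
    · rw [if_pos h, if_neg (by omega), add_zero]
    · rw [if_neg (by omega), if_pos h, zero_add, coeff_mk, Nat.sub_add_cancel h]
  have hinv : (HahnSeries.ofPowerSeries ℤ k u)⁻¹ =
      HahnSeries.single (-1 : ℤ) (1 : k) * HahnSeries.ofPowerSeries ℤ k w := by
    refine inv_eq_of_mul_eq_one_right ?_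
    rw [huv, map_mul, HahnSeries.ofPowerSeries_X, mul_mul_mul_comm, HahnSeries.single_mul_single, ← map_mul, hvw,
      map_one, add_neg_cancel, mul_one, mul_one]
    rfl
  set P := PowerSeries.subst u f₀ * PowerSeries.derivative k u * w ^ N with hP
  have hmain : (HahnSeries.ofPowerSeries ℤ k (PowerSeries.subst u f₀ * PowerSeries.derivative k u) *
      (HahnSeries.ofPowerSeries ℤ k u)⁻¹ ^ N).coeff (-1) = (HahnSeries.ofPowerSeries ℤ k P).coeff ((N : ℤ) - 1) := by
    rw [hinv, mul_pow, HahnSeries.single_pow, one_pow, mul_left_comm, ← map_pow, ← map_mul, ← hP]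
    refine Eq.trans (congrArg _ (show (-1 : ℤ) = ((N : ℤ) - 1) + N • (-1 : ℤ) by simp; ring)) ?_
    rw [HahnSeries.coeff_single_mul_add, one_mul]
  rw [hmain]
  rcases N with _ | n
  · rw [if_pos rfl, Nat.cast_zero, zero_sub]
    exact HahnSeries.embDomain_notin_image_support (by simp)
  · rw [if_neg (Nat.succ_ne_zero n), Nat.add_sub_cancel, show ((n + 1 : ℕ) : ℤ) - 1 = ((n : ℕ) : ℤ) by push_cast; ring,
      HahnSeries.ofPowerSeries_apply_coeff, hP]
    have hw : ∀ i, i ≤ n + 1 → u ^ i * w ^ (n + 1) = X ^ i * w ^ (n + 1 - i) := fun i hi => by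
      rw [huv, mul_pow, mul_assoc]
      congr 1
      conv_lhs => rw [show n + 1 = i + (n + 1 - i) by omega, pow_add, ← mul_assoc, ← mul_pow, hvw, one_pow, one_mul]
    have hsubst : PowerSeries.subst u f₀ = Polynomial.aeval u T + u ^ (n + 1) * PowerSeries.subst u g := by
      conv_lhs => rw [hf]
      rw [subst_add hsub, subst_coe hsub, subst_mul hsub, subst_pow hsub, subst_X hsub]
    rw [hsubst, add_mul, add_mul, map_add]
    have h2 : coeff n (u ^ (n + 1) * PowerSeries.subst u g * derivative k u * w ^ (n + 1)) = 0 := by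
      rw [show u ^ (n + 1) * PowerSeries.subst u g * derivative k u * w ^ (n + 1) =
        (u ^ (n + 1) * w ^ (n + 1)) * (PowerSeries.subst u g * derivative k u) by ring, hw _ le_rfl, mul_assoc,
        coeff_X_pow_mul', if_neg (by omega)]
    rw [h2, add_zero, Polynomial.aeval_eq_sum_range' (n := n + 1) (natDegree_trunc_lt f₀ n),
      Finset.sum_mul, Finset.sum_mul, map_sum]
    have hterm : ∀ i ∈ Finset.range (n + 1), coeff n (T.coeff i • u ^ i * derivative k u * w ^ (n + 1)) =
        if i = n then coeff n f₀ else 0 := by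
      intro i hi
      rw [Finset.mem_range] at hi
      rw [smul_mul_assoc, smul_mul_assoc, coeff_smul, mul_right_comm, hw i (by omega), mul_assoc, coeff_X_pow_mul',
        if_pos (by omega), mul_comm (w ^ (n + 1 - i)), show n + 1 - i = (n - i) + 1 by omega, huv, coeff_res v w hvw,
        smul_eq_mul]
      rcases eq_or_ne i n with rfl | hne
      · rw [if_pos (Nat.sub_self _), if_pos rfl, mul_one, coeff_trunc, if_pos (by omega)]
      · rw [if_neg (by omega), if_neg hne, mul_zero]
    rw [Finset.sum_congr rfl hterm, Finset.sum_ite_eq', if_pos (Finset.self_mem_range_succ n)]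

end Groth.Agent.ResUnif
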